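import Cfsg.Agent.Lib.Lie.Chev.Small.G2TwoChecks
import Cfsg.Agent.Lib.Char.SU33.Classes
import Cfsg.Agent.Lib.Classical.PSUSimple
import Cfsg.Agent.Lib.Lie.Chev.FieldMap
import Cfsg.Agent.Lib.Lie.Chev.FullAll
import Cfsg.Prelude.Def_ChevG2

/-!
# The derived group of `G₂(2)` is `PSU₃(3)`
-/

set_option autoImplicit false
set_option maxRecDepth 100000

namespace CfsgLib.Lie.Chev.Small.G2Two

open Cfsg.Lie Matrix
open CfsgLib.Char
open CfsgLib.Char.SU33 (pget gCode mulM oneM codeOf Root)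
open CfsgLib.Char.J2 (psuSucA psuSucB psuParTab psuDepTab psuUnit psuGenA psuGenB)

variable {F : Type*} [Field F] (R : Root F)

/-- The map on the unitary group. -/
noncomputable def mapMat (g : ↥(Cfsg.SU 3 F 3)) : Matrix chevG2.Idx chevG2.Idx (ZMod 2) :=
  dec (imgC ((SU33.elem_bijective R).2 g).choose.1)

theorem mapMat_elem (i : Fin 6048) : mapMat R (SU33.elem R i) = dec (imgC i.1) := by
  rw [mapMat]
  congr 2
  exact congrArg Fin.val ((SU33.elem_bijective R).1 ((SU33.elem_bijective R).2 (SU33.elem R i)).choose_spec)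

theorem elem_unit : SU33.elem R ⟨psuUnit, base_check.1⟩ = 1 :=
  SU33.codeOf_injective R (by rw [SU33.codeOf_elem, SU33.codeOf_one, base_check.2.1])

theorem mapMat_one : mapMat R 1 = 1 := by
  rw [← elem_unit R, mapMat_elem, base_check.2.2.1]

theorem elem_step {i g : ℕ} (hi : i < 6048) (hg : g < 2) : ∃ hs : suc g i < 6048,
    SU33.elem R ⟨i, hi⟩ * SU33.elem R ⟨gen g, gen_lt g⟩ = SU33.elem R ⟨suc g i, hs⟩ ∧
    dec (imgC i) * dec (imgC (gen g)) = dec (imgC (suc g i)) := by
  obtain ⟨hs, hm, hb⟩ := step_check hi hg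
  exact ⟨hs, SU33.codeOf_injective R
    (by rw [SU33.codeOf_mul, SU33.codeOf_elem, SU33.codeOf_elem, SU33.codeOf_elem, hm]), (dec_mul hb).symm⟩

/-- Induction along the tree. -/
theorem tree_induction {P : ↥(Cfsg.SU 3 F 3) → Prop} (h1 : P 1)
    (hs : ∀ x g, g < 2 → P x → P (x * SU33.elem R ⟨gen g, gen_lt g⟩)) (y : ↥(Cfsg.SU 3 F 3)) : P y := by
  have ht := tree_check
  simp only [List.all_eq_true, List.mem_range, Bool.or_eq_true, Bool.and_eq_true, decide_eq_true_eq,
    beq_iff_eq] at ht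
  obtain ⟨i, rfl⟩ := (SU33.elem_bijective R).2 y
  suffices key : ∀ d, ∀ i : Fin 6048, pget 6 psuDepTab i.1 < d → P (SU33.elem R i) from
    key _ i (Nat.lt_succ_self _)
  intro d
  induction d with
  | zero => intro i h; omega
  | succ d ih =>
    intro i hd
    rcases ht i.1 i.2 with h | ⟨⟨hp, hlt⟩, he⟩
    · rw [show i = ⟨psuUnit, base_check.1⟩ from Fin.ext h, elem_unit]
      exact h1
    · obtain ⟨hs', e1, -⟩ := elem_step R hp (Nat.mod_lt (pget 14 psuParTab i.1) two_pos)
      rw [show i = ⟨_, hs'⟩ from Fin.ext he.symm, ← e1]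
      exact hs _ _ (Nat.mod_lt _ two_pos) (ih _ (by show pget 6 psuDepTab (pget 14 psuParTab i.1 / 2) < d; omega))

/-- The homomorphism. -/
noncomputable def su33Hom : ↥(Cfsg.SU 3 F 3) →* Matrix chevG2.Idx chevG2.Idx (ZMod 2) where
  toFun := mapMat R
  map_one' := mapMat_one R
  map_mul' x y := by
    have hgen : ∀ (x : ↥(Cfsg.SU 3 F 3)) (g : ℕ), g < 2 →
        mapMat R (x * SU33.elem R ⟨gen g, gen_lt g⟩) = mapMat R x * dec (imgC (gen g)) := by
      intro x g hg
      obtain ⟨⟨i, hi⟩, rfl⟩ := (SU33.elem_bijective R).2 x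
      obtain ⟨hs, e1, e2⟩ := elem_step R hi hg
      rw [e1, mapMat_elem, mapMat_elem, ← e2]
    refine tree_induction R (P := fun y => ∀ x, mapMat R (x * y) = mapMat R x * mapMat R y) ?_ ?_ y x
    · intro x; rw [mul_one, mapMat_one, mul_one]
    · intro z g hg hz x
      rw [← mul_assoc, hgen _ _ hg, hgen _ _ hg, hz, mul_assoc]

include R in
theorem center_eq_bot : Subgroup.center ↥(Cfsg.SU 3 F 3) = ⊥ := by
  rw [eq_bot_iff]
  intro z hz
  obtain ⟨⟨i, hi⟩, rfl⟩ := (SU33.elem_bijective R).2 z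
  have hc := central_check
  simp only [List.all_eq_true, List.mem_range, Bool.or_eq_true, beq_iff_eq, Bool.not_eq_true',
    Bool.and_eq_false_iff, beq_eq_false_iff_ne] at hc
  rcases hc i hi with h | h
  · subst h; rw [Subgroup.mem_bot]; exact elem_unit R
  · exfalso
    have hcomm : ∀ (j : ℕ) (hj : j < 6048), mulM (gCode i) (gCode j) = mulM (gCode j) (gCode i) := fun j hj => by
      have := congrArg (codeOf R) (Subgroup.mem_center_iff.1 hz (SU33.elem R ⟨j, hj⟩))
      rw [SU33.codeOf_mul, SU33.codeOf_mul, SU33.codeOf_elem, SU33.codeOf_elem] at this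
      exact this.symm
    rcases h with h | h
    · exact h (hcomm _ (gen_lt 0))
    · exact h (hcomm _ (gen_lt 1))

/-- The unitary group is a subgroup of index two of `G₂(2)`, by `mapMat`. -/
theorem exists_embedding [Fintype F] (hK : Fintype.card F = 9)
    (h12096 : Nat.card ↥(chevG2.group (ZMod 2)) = 12096) :
    ∃ f : ↥(Cfsg.SU 3 F 3) →* ↥(chevG2.group (ZMod 2)), Function.Injective f ∧ f.range.index = 2 ∧
      ∀ y, ((f y : GL chevG2.Idx (ZMod 2)) : Matrix chevG2.Idx chevG2.Idx (ZMod 2)) = mapMat R y := by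
  classical
  let u := (su33Hom R).toHomUnits
  have hu : ∀ y, ((u y : GL chevG2.Idx (ZMod 2)) : Matrix chevG2.Idx chevG2.Idx (ZMod 2)) = mapMat R y :=
    fun y => rfl
  have hroot : ∀ (w : List ℕ), w.all (· < 12) = true → ∃ g ∈ chevG2.group (ZMod 2),
      ((g : GL chevG2.Idx (ZMod 2)) : Matrix chevG2.Idx chevG2.Idx (ZMod 2)) = (w.map fun k => dec (rootTab.getD k 0)).prod := by
    intro w hw
    induction w with
    | nil => exact ⟨1, one_mem _, rfl⟩
    | cons k w ih =>
      simp only [List.all_cons, Bool.and_eq_true, decide_eq_true_eq] at hw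
      obtain ⟨g, hg, e⟩ := ih hw.2
      obtain ⟨C⟩ := nonempty_full (D := chevG2) (by simp)
      refine ⟨C.G.xu ⟨k, hw.1⟩ 1 * g, mul_mem (C.G.xu_mem _ _) hg, ?_⟩
      rw [Units.val_mul, e, List.map_cons, List.prod_cons, ← C.G.x_eq_xu,
        base_check.2.2.2.2.2.2.2.2 ⟨k, hw.1⟩]
  have hmem : ∀ y, u y ∈ chevG2.group (ZMod 2) := by
    refine tree_induction R (by rw [map_one]; exact one_mem _) fun x g hg hx => ?_
    rw [map_mul]
    refine mul_mem hx ?_
    obtain ⟨w, hw, e⟩ : ∃ w : List ℕ, w.all (· < 12) = true ∧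
        dec (imgC (gen g)) = (w.map fun k => dec (rootTab.getD k 0)).prod := by
      unfold gen; split
      · exact ⟨wordA, base_check.2.2.2.2.2.2.1, base_check.2.2.2.1⟩
      · exact ⟨wordB, base_check.2.2.2.2.2.2.2.1, base_check.2.2.2.2.1⟩
    obtain ⟨g', hg', e'⟩ := hroot w hw
    have : u (SU33.elem R ⟨gen g, gen_lt g⟩) = g' := Units.ext (by rw [hu, mapMat_elem, e', e])
    exact this ▸ hg'
  let f : ↥(Cfsg.SU 3 F 3) →* ↥(chevG2.group (ZMod 2)) := u.codRestrict _ hmem
  let q : ↥(Cfsg.SU 3 F 3) ≃* Cfsg.PSU 3 F 3 :=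
    ((QuotientGroup.quotientMulEquivOfEq (center_eq_bot R)).trans QuotientGroup.quotientBot).symm
  haveI hps : IsSimpleGroup (Cfsg.PSU 3 F 3) :=
    CfsgLib.Classical.psu_isSimple (by rw [hK]; norm_num) le_rfl (by norm_num)
  haveI hsu : IsSimpleGroup ↥(Cfsg.SU 3 F 3) := by
    haveI := q.toEquiv.nontrivial
    exact IsSimpleGroup.isSimpleGroup_of_surjective q.symm.toMonoidHom q.symm.surjective
  have hne : f.ker ≠ ⊤ := by
    intro e
    have h1 : f (SU33.elem R ⟨psuGenA, gen_lt 0⟩) = 1 := by rw [← MonoidHom.mem_ker, e]; trivial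
    have h2 := congrArg (fun g : ↥(chevG2.group (ZMod 2)) => ((g : GL chevG2.Idx (ZMod 2)) : Matrix chevG2.Idx chevG2.Idx (ZMod 2))) h1
    have h3 : mapMat R (SU33.elem R ⟨psuGenA, gen_lt 0⟩) = 1 := h2
    rw [mapMat_elem] at h3
    exact base_check.2.2.2.2.2.1 h3
  have hker : f.ker = ⊥ := (Subgroup.Normal.eq_bot_or_eq_top inferInstance).resolve_right hne
  have hinj : Function.Injective f := (MonoidHom.ker_eq_bot_iff f).1 hker
  have hidx : f.range.index = 2 := by
    have := Subgroup.card_mul_index f.range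
    rw [← Nat.card_congr (MonoidHom.ofInjective hinj).toEquiv, SU33.card_su33 R, h12096] at this
    omega
  exact ⟨f, hinj, hidx, hu⟩

/-- `G₂(2)′` is `PSU₃(3)`, over the prime field. -/
theorem g2_two_derived [Fintype F] (hK : Fintype.card F = 9)
    (h12096 : Nat.card ↥(chevG2.group (ZMod 2)) = 12096) :
    Nonempty (↥(commutator ↥(chevG2.group (ZMod 2))) ≃* Cfsg.PSU 3 F 3) := by
  classical
  obtain ⟨R⟩ := SU33.exists_root (F := F) hK
  obtain ⟨f, hinj, hidx, -⟩ := exists_embedding R hK h12096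
  let q : ↥(Cfsg.SU 3 F 3) ≃* Cfsg.PSU 3 F 3 :=
    ((QuotientGroup.quotientMulEquivOfEq (center_eq_bot R)).trans QuotientGroup.quotientBot).symm
  haveI hps : IsSimpleGroup (Cfsg.PSU 3 F 3) :=
    CfsgLib.Classical.psu_isSimple (by rw [hK]; norm_num) le_rfl (by norm_num)
  haveI hsu : IsSimpleGroup ↥(Cfsg.SU 3 F 3) := by
    haveI := q.toEquiv.nontrivial
    exact IsSimpleGroup.isSimpleGroup_of_surjective q.symm.toMonoidHom q.symm.surjective
  have hperf : commutator ↥(Cfsg.SU 3 F 3) = ⊤ := by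
    refine (Subgroup.Normal.eq_bot_or_eq_top inferInstance).resolve_left fun e => ?_
    have htop : Subgroup.center ↥(Cfsg.SU 3 F 3) = ⊤ := (commutator_eq_bot_iff_center_eq_top _).1 e
    haveI := hsu.toNontrivial
    exact bot_ne_top (center_eq_bot R ▸ htop)
  set H := f.range
  haveI : H.Normal := Subgroup.normal_of_index_eq_two hidx
  have hle : commutator ↥(chevG2.group (ZMod 2)) ≤ H := by
    haveI : IsMulCommutative (↥(chevG2.group (ZMod 2)) ⧸ H) := by
      haveI : Fact (Nat.Prime 2) := ⟨Nat.prime_two⟩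
      haveI : IsCyclic (↥(chevG2.group (ZMod 2)) ⧸ H) := isCyclic_of_prime_card (p := 2) (by rw [← Subgroup.index_eq_card, hidx])
      infer_instance
    exact Subgroup.Normal.quotient_commutative_iff_commutator_le.1 inferInstance
  have hge : H ≤ commutator ↥(chevG2.group (ZMod 2)) := by
    rw [show H = (commutator ↥(Cfsg.SU 3 F 3)).map f by rw [hperf, ← MonoidHom.range_eq_map]]
    rw [commutator_def, commutator_def, Subgroup.map_commutator]
    exact Subgroup.commutator_mono le_top le_top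
  exact ⟨(MulEquiv.subgroupCongr (le_antisymm hle hge)).trans ((MonoidHom.ofInjective hinj).symm.trans q)⟩

end CfsgLib.Lie.Chev.Small.G2Two
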