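import Cfsg.Agent.Lib.Lie.Chev.Univ.Center
import Cfsg.Agent.Lib.Lie.Chev.FullAll
import Cfsg.Agent.Lib.Lie.Chev.Api
import Cfsg.Agent.S1060
import Mathlib.GroupTheory.Perm.Sign

/-!
# `B₂(2)` is the symmetric group of degree six
-/

set_option autoImplicit false
set_option maxRecDepth 100000

namespace CfsgLib.Lie.Chev.Small

open Cfsg.Lie Equiv

/-- the images of the eight root involutions -/
def b2Perm : Fin 8 → Perm (Fin 6) :=
  ![swap 0 2, swap 0 2 * swap 1 4 * swap 3 5, swap 0 2 * swap 1 3 * swap 4 5, swap 3 5,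
    swap 4 5, swap 0 1 * swap 2 4 * swap 3 5, swap 0 1 * swap 2 3 * swap 4 5, swap 0 1]

/-- the image of a root element -/
def b2Img (r : ℕ) : Perm (Fin 6) := if h : r < 8 then b2Perm ⟨r, h⟩ else 1

theorem b2_gen_rel : ∀ r < 8, b2Img r * b2Img r = 1 ∧
    (b2Img r * b2Img (chevB2.neg r) * b2Img r) * (b2Img r * b2Img (chevB2.neg r) * b2Img r) = 1 := by
  decide +kernel

theorem b2_comm_rel : ∀ r < 8, ∀ s < 8, s ≠ r → s ≠ chevB2.neg r →
    (b2Img s)⁻¹ * (b2Img r)⁻¹ * b2Img s * b2Img r =
      ((chevB2.commTerms r s).map fun c => if (c.2.1 : ℤ) % 2 = 0 then 1 else b2Img c.1).prod := by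
  decide +kernel

theorem b2_terms : ∀ r < 8, ∀ s < 8, ∀ c ∈ chevB2.commTerms r s,
    c.1 < 8 ∧ c.2.2.1 ≠ 0 ∧ c.2.2.2 ≠ 0 := by
  decide +kernel

theorem b2_adjacent : ∀ i : Fin 5, swap i.castSucc i.succ ∈
    [b2Img 7, b2Img 7 * b2Img 0 * b2Img 7, b2Img 5 * b2Img 4 * b2Img 5,
      b2Img 4 * b2Img 3 * b2Img 4, b2Img 4] := by
  decide +kernel

theorem b2_two_iso {F : Type*} [Field F] [Fintype F] (hF : Fintype.card F = 2) :
    Nonempty (↥(chevB2.group F) ≃* Perm (Fin 6)) := by
  classical
  have hcases : ∀ t : F, t = 0 ∨ t = 1 := fun t => by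
    have h2 : ({0, 1} : Finset F) = Finset.univ := Finset.eq_univ_of_card _ (by simp [hF])
    simpa [← h2] using Finset.mem_univ t
  have h11 : (1 : F) + 1 = 0 := (hcases _).resolve_right fun e => one_ne_zero (add_eq_left.1 e)
  have hneg : (-1 : F) = 1 := neg_eq_of_add_eq_zero_left h11
  have hint : ∀ z : ℤ, (z : F) = if z % 2 = 0 then 0 else 1 := fun z => by
    conv_lhs => rw [← Int.emod_add_ediv_mul z 2]
    push_cast
    rw [show (2 : F) = 0 by rw [← h11]; norm_num, mul_zero, add_zero]
    rcases Int.emod_two_eq z with h | h <;> simp [h]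
  let g : ℕ → F → Perm (Fin 6) := fun r t => if t = 0 then 1 else b2Img r
  let f : FreeGroup (Fin chevB2.nroots × F) →* Perm (Fin 6) :=
    FreeGroup.lift fun x => g x.1.val x.2
  have hg : ∀ r < 8, ∀ t, f (chevB2.stX r t) = g r t := fun r hr t => by
    rw [ChevalleyDatum.stX, dif_pos (show r < chevB2.nroots from hr)]
    exact FreeGroup.lift_apply_of
  have hrels : ∀ w ∈ chevB2.steinbergRels F, f w = 1 := by
    rintro w ((⟨r, t, u, hr, rfl⟩ | ⟨r, s, t, u, hr, hs, n1, n2, rfl⟩) | ⟨r, t, u, hr, ht, hu, rfl⟩)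
    · simp only [map_mul, map_inv, hg r hr]
      rcases hcases t with rfl | rfl <;> rcases hcases u with rfl | rfl <;>
        simp [g, h11, (b2_gen_rel r hr).1]
    · rw [map_mul, map_inv, mul_inv_eq_one]
      simp only [map_mul, map_inv, hg r hr, hg s hs]
      have hw : f (chevB2.stWord (chevB2.commWord F r s t u)) =
          if t = 0 ∨ u = 0 then 1 else
            ((chevB2.commTerms r s).map fun c =>
              if (c.2.1 : ℤ) % 2 = 0 then 1 else b2Img c.1).prod := by
        rw [ChevalleyDatum.stWord, map_list_prod, ChevalleyDatum.commWord, List.map_map, List.map_map]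
        split_ifs with h0
        · refine List.prod_eq_one fun x hx => ?_
          obtain ⟨c, hc, rfl⟩ := List.mem_map.1 hx
          obtain ⟨h1, h2, h3⟩ := b2_terms r hr s hs c hc
          rcases h0 with rfl | rfl <;> simp [hg _ h1, g, h2, h3]
        · simp only [not_or] at h0
          obtain rfl := (hcases t).resolve_left h0.1
          obtain rfl := (hcases u).resolve_left h0.2
          refine congrArg List.prod (List.map_congr_left fun c hc => ?_)
          simp [hg _ (b2_terms r hr s hs c hc).1, g, hneg, hint c.2.1]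
      rw [hw]
      rcases hcases t with rfl | rfl <;> rcases hcases u with rfl | rfl <;>
        simp [g]
      convert b2_comm_rel r hr s hs n1 n2 using 6 with c
      exact Int.dvd_iff_emod_eq_zero
    · obtain rfl := (hcases t).resolve_left ht
      obtain rfl := (hcases u).resolve_left hu
      have hn : chevB2.neg r < 8 := (show ∀ r < 8, chevB2.neg r < 8 by decide +kernel) r hr
      have e : f (chevB2.stH r (1 : F)) = 1 := by
        simp [ChevalleyDatum.stH, ChevalleyDatum.stWord, ChevalleyDatum.hWord,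
          ChevalleyDatum.nWord, hg r hr, hg _ hn, g, hneg]
        simpa [mul_assoc] using (b2_gen_rel r hr).2
      rw [map_mul, map_mul, map_inv, mul_one, e]
      simp
  let φ : chevB2.SteinbergGroup F →* Perm (Fin 6) :=
    PresentedGroup.toGroup (f := fun x => g x.1.val x.2) hrels
  have hφ : ∀ r < 8, b2Img r ∈ φ.range := fun r hr =>
    ⟨PresentedGroup.of (⟨r, hr⟩, 1), by rw [PresentedGroup.toGroup.of]; simp [g]⟩
  have hsurj : φ.range = ⊤ := by
    rw [eq_top_iff]
    intro x _
    have hx : x ∈ Submonoid.closure (Set.range fun i : Fin 5 => swap i.castSucc i.succ) := by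
      rw [Equiv.Perm.mclosure_swap_castSucc_succ]; trivial
    refine (Submonoid.closure_le (S := φ.range.toSubmonoid)).2 ?_ hx
    rintro _ ⟨i, rfl⟩
    have h := b2_adjacent i
    simp only [List.mem_cons, List.not_mem_nil, or_false] at h
    show swap i.castSucc i.succ ∈ φ.range
    rcases h with h | h | h | h | h <;> rw [h] <;> first
      | exact hφ _ (by norm_num)
      | exact mul_mem (mul_mem (hφ _ (by norm_num)) (hφ _ (by norm_num))) (hφ _ (by norm_num))
  have hD : chevB2 ∈ [chevG2, chevB2, chevD4, chevF4, chevE6, chevE7, chevE8] := by simp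
  let C : Full chevB2 := fullOf hD
  have hP := hasPair_tab hD C
  haveI : Subsingleton Fˣ := ⟨fun a b => Units.ext (((hcases a).resolve_left a.ne_zero).trans
    ((hcases b).resolve_left b.ne_zero).symm)⟩
  have hker : (Univ.thetaG C (K := F)).ker = ⊥ := by
    rw [Univ.thetaG_ker, C.kerSt_eq hP, Subgroup.eq_bot_of_subsingleton (C.G.torθ (K := F)).ker,
      Subgroup.map_bot]
  have hts : Function.Surjective (Univ.thetaG C (K := F)) := fun x => by
    obtain ⟨y, hy⟩ := (C.thetaSt_range (K := F)).ge x.2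
    exact ⟨y, Subtype.ext hy⟩
  let e : chevB2.SteinbergGroup F ≃* ↥(chevB2.group F) :=
    MulEquiv.ofBijective _ ⟨(MonoidHom.ker_eq_bot_iff _).1 hker, hts⟩
  have hcard : Nat.card ↥(chevB2.group F) = 720 := by
    simpa using Cfsg.Agent.S1060.result hF
  have hb : Function.Bijective φ := by
    have hs : Function.Surjective φ := MonoidHom.range_eq_top.1 hsurj
    haveI : Finite (chevB2.SteinbergGroup F) := Finite.of_equiv _ e.symm.toEquiv
    exact hs.bijective_of_nat_card_le (by
      rw [Nat.card_congr e.toEquiv, hcard, Nat.card_perm, Nat.card_fin]; decide)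
  exact ⟨e.symm.trans (MulEquiv.ofBijective φ hb)⟩

end CfsgLib.Lie.Chev.Small
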