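import Cfsg.Agent.Lib.Lie.Chev.Small.G2TwoData
import Cfsg.Agent.Lib.Char.J2.PSUData
import Cfsg.Agent.Lib.Char.SU33.Classes
import Cfsg.Prelude.Def_ChevG2
import Cfsg.Prelude.Def_ChevWords

/-!
# Table checks for the derived group of `G₂(2)`
-/

set_option autoImplicit false
set_option maxRecDepth 100000

namespace CfsgLib.Lie.Chev.Small.G2Two

open Cfsg.Lie Matrix
open CfsgLib.Char
open CfsgLib.Char.SU33 (pget gCode mulM oneM codeOf Root)
open CfsgLib.Char.J2 (psuSucA psuSucB psuParTab psuDepTab psuUnit psuGenA psuGenB)

/-- A row of a code. -/
def row (A i : ℕ) : ℕ := (A >>> (14 * i)) &&& (2 ^ 14 - 1)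

/-- A row times a matrix. -/
def rowMul (r B : ℕ) : ℕ → ℕ
  | 0 => 0
  | j + 1 => if r.testBit j then rowMul r B j ^^^ row B j else rowMul r B j

/-- The product relation on codes. -/
def isMul (A B C : ℕ) : Bool := (List.range 14).all fun i => row C i == rowMul (row A i) B 14

/-- The index of a coordinate. -/
def ix : chevG2.Idx → ℕ := Sum.elim (fun i => i.val) (fun r => 2 + r.val)

/-- The matrix of a code. -/
def dec (A : ℕ) : Matrix chevG2.Idx chevG2.Idx (ZMod 2) :=
  Matrix.of fun a b => if (row A (ix a)).testBit (ix b) then 1 else 0

theorem rowMul_bit (r B c : ℕ) : ∀ n,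
    (if (rowMul r B n).testBit c then (1 : ZMod 2) else 0) =
      ∑ j ∈ Finset.range n, (if r.testBit j then 1 else 0) * (if (row B j).testBit c then 1 else 0)
  | 0 => by simp [rowMul]
  | n + 1 => by
    rw [Finset.sum_range_succ, ← rowMul_bit r B c n, rowMul]
    by_cases h : r.testBit n
    · rw [if_pos h, if_pos h, one_mul, Nat.testBit_xor]
      cases (rowMul r B n).testBit c <;> cases (row B n).testBit c <;> decide
    · simp [h]

theorem ix_lt (a : chevG2.Idx) : ix a < 14 := by
  rcases a with i | r
  · have := i.isLt; have h : chevG2.rank = 2 := rfl; simp only [ix, Sum.elim_inl]; omega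
  · have := r.isLt; have h : chevG2.nroots = 12 := rfl; simp only [ix, Sum.elim_inr]; omega

theorem ix_bij : Function.Injective ix ∧ Finset.univ.image ix = Finset.range 14 := by
  constructor <;> decide +kernel

theorem dec_mul {A B C : ℕ} (h : isMul A B C = true) : dec C = dec A * dec B := by
  simp only [isMul, List.all_eq_true, List.mem_range, beq_iff_eq] at h
  ext a b
  simp only [dec, Matrix.of_apply, Matrix.mul_apply]
  rw [h _ (ix_lt a), rowMul_bit, ← ix_bij.2, Finset.sum_image fun x _ y _ e => ix_bij.1 e]

/-- The code of an image. -/
def imgC (i : ℕ) : ℕ := (imgTab.getD (i / 64) []).getD (i % 64) 0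

/-- The table of right multiplication by a generator. -/
def suc (g i : ℕ) : ℕ := if g = 0 then pget 13 psuSucA i else pget 13 psuSucB i

/-- A generator. -/
def gen (g : ℕ) : ℕ := if g = 0 then psuGenA else psuGenB

/-- The check of the steps in a block of 504. -/
def stepBlock (k : ℕ) : Bool := (List.range 504).all fun j => (List.range 2).all fun g =>
  decide (suc g (504 * k + j) < 6048) &&
    (gCode (suc g (504 * k + j)) == mulM (gCode (504 * k + j)) (gCode (gen g))) &&
      isMul (imgC (504 * k + j)) (imgC (gen g)) (imgC (suc g (504 * k + j)))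

theorem step_block0 : stepBlock 0 = true := by decide +kernel

theorem step_block1 : stepBlock 1 = true := by decide +kernel

theorem step_block2 : stepBlock 2 = true := by decide +kernel

theorem step_block3 : stepBlock 3 = true := by decide +kernel

theorem step_block4 : stepBlock 4 = true := by decide +kernel

theorem step_block5 : stepBlock 5 = true := by decide +kernel

theorem step_block6 : stepBlock 6 = true := by decide +kernel

theorem step_block7 : stepBlock 7 = true := by decide +kernel

theorem step_block8 : stepBlock 8 = true := by decide +kernel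

theorem step_block9 : stepBlock 9 = true := by decide +kernel

theorem step_block10 : stepBlock 10 = true := by decide +kernel

theorem step_block11 : stepBlock 11 = true := by decide +kernel

theorem step_check {i g : ℕ} (hi : i < 6048) (hg : g < 2) : suc g i < 6048 ∧
    gCode (suc g i) = mulM (gCode i) (gCode (gen g)) ∧ isMul (imgC i) (imgC (gen g)) (imgC (suc g i)) = true := by
  have hb : stepBlock (i / 504) = true := by
    have : i / 504 < 12 := by omega
    interval_cases i / 504
    · exact step_block0
    · exact step_block1
    · exact step_block2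
    · exact step_block3
    · exact step_block4
    · exact step_block5
    · exact step_block6
    · exact step_block7
    · exact step_block8
    · exact step_block9
    · exact step_block10
    · exact step_block11
  simp only [stepBlock, List.all_eq_true, List.mem_range, Bool.and_eq_true, decide_eq_true_eq, beq_iff_eq] at hb
  have h := hb (i % 504) (Nat.mod_lt _ (by norm_num)) g hg
  rw [Nat.div_add_mod] at h
  exact ⟨h.1.1, h.1.2, h.2⟩

theorem tree_check : ((List.range 6048).all fun i =>
    decide (i = psuUnit) || (decide (pget 14 psuParTab i / 2 < 6048) &&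
      decide (pget 6 psuDepTab (pget 14 psuParTab i / 2) < pget 6 psuDepTab i) &&
      (suc (pget 14 psuParTab i % 2) (pget 14 psuParTab i / 2) == i))) = true := by
  decide +kernel

theorem gen_lt (g : ℕ) : gen g < 6048 := by
  unfold gen; split <;> decide +kernel

theorem base_check : psuUnit < 6048 ∧ gCode psuUnit = oneM ∧ dec (imgC psuUnit) = 1 ∧
    dec (imgC psuGenA) = (wordA.map fun k => dec (rootTab.getD k 0)).prod ∧
    dec (imgC psuGenB) = (wordB.map fun k => dec (rootTab.getD k 0)).prod ∧
    dec (imgC psuGenA) ≠ 1 ∧ wordA.all (· < 12) = true ∧ wordB.all (· < 12) = true ∧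
    ∀ k : Fin 12, dec (rootTab.getD k.val 0) = chevG2.x (ZMod 2) k.val 1 := by
  decide +kernel

/-- Only the unit commutes with both generators. -/
theorem central_check : ((List.range 6048).all fun i => i == psuUnit ||
    !(mulM (gCode i) (gCode psuGenA) == mulM (gCode psuGenA) (gCode i) &&
      mulM (gCode i) (gCode psuGenB) == mulM (gCode psuGenB) (gCode i))) = true := by
  decide +kernel

end CfsgLib.Lie.Chev.Small.G2Two
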